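import Groth.Agent.S2821
import Mathlib

/-!
# Logarithmic differentials with logarithmic poles
-/

universe u

namespace Groth.Agent.H6LogDiff

open KaehlerDifferential

section DL

variable (k : Type u) [Field k] {K : Type u} [Field K] [Algebra k K]

/-- The logarithmic differential. -/
noncomputable def dl (x : K) : Ω[K⁄k] := x⁻¹ • D k K x

theorem dl_mul {x y : K} (hx : x ≠ 0) (hy : y ≠ 0) : dl k (x * y) = dl k x + dl k y := by
  rw [dl, dl, dl, Derivation.leibniz, smul_add, smul_smul, smul_smul, mul_inv,
    show x⁻¹ * y⁻¹ * x = y⁻¹ by field_simp, show x⁻¹ * y⁻¹ * y = x⁻¹ by field_simp, add_comm]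

theorem dl_one : dl k (1 : K) = 0 := by simp [dl]

theorem dl_inv {x : K} (hx : x ≠ 0) : dl k x⁻¹ = -dl k x := by
  rw [eq_neg_iff_add_eq_zero, ← dl_mul k (inv_ne_zero hx) hx, inv_mul_cancel₀ hx, dl_one]

theorem dl_pow {x : K} (hx : x ≠ 0) (n : ℕ) : dl k (x ^ n) = n • dl k x := by
  induction n with
  | zero => simp [dl_one]
  | succ n ih => rw [pow_succ, dl_mul k (pow_ne_zero n hx) hx, ih, succ_nsmul]

end DL

section Local

variable {k S K : Type u} [Field k] [CharZero k] [CommRing S] [IsDomain S] [Algebra k S]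
  [Algebra.FormallySmooth k S] [Algebra.EssFiniteType k S] [IsLocalRing S]
  [Field K] [Algebra S K] [IsFractionRing S K] [Algebra k K] [IsScalarTower k S K]

variable (k S K) in
/-- Forms without poles. -/
noncomputable def forms : Submodule S Ω[K⁄k] := LinearMap.range (KaehlerDifferential.map k k S K)

theorem D_mem (x : S) : D k K (algebraMap S K x) ∈ forms k S K :=
  ⟨D k S x, KaehlerDifferential.map_D k k S K x⟩

theorem dl_mem {x : S} (hx : IsUnit x) : dl k (algebraMap S K x) ∈ forms k S K := by
  obtain ⟨u, rfl⟩ := hx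
  have h : (algebraMap S K u)⁻¹ = algebraMap S K ↑u⁻¹ :=
    inv_eq_of_mul_eq_one_right (by rw [← map_mul, Units.mul_inv, map_one])
  rw [dl, h, algebraMap_smul]
  exact Submodule.smul_mem _ _ (D_mem (u : S))

omit [CharZero k] in
theorem map_injective : Function.Injective (KaehlerDifferential.map k k S K) := by
  haveI : Module.Free S Ω[S⁄k] := Module.free_of_flat_of_isLocalRing
  rw [injective_iff_map_eq_zero]
  intro x hx
  obtain ⟨⟨s, hs⟩, hsx⟩ := (IsLocalizedModule.eq_zero_iff (nonZeroDivisors S) (KaehlerDifferential.map k k S K)).1 hx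
  have hsx' : s • x = 0 := hsx
  let b := Module.Free.chooseBasis S Ω[S⁄k]
  refine b.repr.injective (Finsupp.ext fun i => ?_)
  have := congrArg (fun m => b.repr m i) hsx'
  simp only [map_smul, Finsupp.smul_apply, map_zero, Finsupp.coe_zero, Pi.zero_apply, smul_eq_mul] at this
  rw [map_zero, Finsupp.coe_zero, Pi.zero_apply]
  exact (mem_nonZeroDivisors_iff_right.1 hs) _ (by rw [mul_comm]; exact this)

/-- The logarithmic differential of a uniformiser has a pole. -/
theorem nsmul_dl_notMem {q : S} (hq0 : q ≠ 0) (hq : IsLocalRing.maximalIdeal S = Ideal.span {q}) {n : ℕ} (hn : n ≠ 0) :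
    n • dl k (algebraMap S K q) ∉ forms k S K := by
  intro hmem
  have hu : IsUnit (n : S) := by
    rw [← map_natCast (algebraMap k S)]
    exact (isUnit_iff_ne_zero.2 (Nat.cast_ne_zero.2 hn)).map _
  rw [← Nat.cast_smul_eq_nsmul S] at hmem
  obtain ⟨w, hw⟩ := hu
  have hmem2 := (forms k S K).smul_mem (↑w⁻¹ : S) hmem
  rw [← hw, smul_smul, Units.inv_mul, one_smul] at hmem2
  clear hmem
  rename' hmem2 => hmem
  obtain ⟨ω, hω⟩ := hmem
  have hne : algebraMap S K q ≠ 0 := (map_ne_zero_iff _ (IsFractionRing.injective S K)).2 hq0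
  have hD : D k S q = q • ω := map_injective (K := K) (by
    rw [KaehlerDifferential.map_D, map_smul, hω, dl, ← algebraMap_smul K q, smul_smul, mul_inv_cancel₀ hne, one_smul])
  -- injectivity of the conormal map at the closed point
  let κ := IsLocalRing.ResidueField S
  have hsurj : Function.Surjective (algebraMap S κ) := IsLocalRing.residue_surjective
  haveI : Algebra.EssFiniteType S κ :=
    haveI : Algebra.FiniteType S κ := Algebra.FiniteType.of_surjective (Algebra.ofId S κ) hsurj
    inferInstance
  haveI : Algebra.EssFiniteType k κ := Algebra.EssFiniteType.comp k S κ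
  obtain ⟨l, hl⟩ := (Algebra.FormallySmooth.iff_split_injection (R := k) (P := S) (A := κ) hsurj).1 inferInstance
  have hqm : q ∈ RingHom.ker (algebraMap S κ) := by
    rw [show algebraMap S κ = IsLocalRing.residue S from rfl, IsLocalRing.ker_residue, hq]
    exact Ideal.mem_span_singleton_self q
  have h0 : KaehlerDifferential.kerCotangentToTensor k S κ (Ideal.toCotangent _ ⟨q, hqm⟩) = 0 := by
    rw [KaehlerDifferential.kerCotangentToTensor_toCotangent]
    change (1 : κ) ⊗ₜ[S] D k S q = 0
    rw [hD, ← TensorProduct.smul_tmul, Algebra.smul_def, RingHom.mem_ker.1 hqm, zero_mul, TensorProduct.zero_tmul]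
  have h1 : Ideal.toCotangent _ ⟨q, hqm⟩ = 0 :=
    (LinearMap.congr_fun hl _).symm.trans ((congrArg l h0).trans (map_zero l))
  rw [Ideal.toCotangent_eq_zero] at h1
  replace h1 : q ∈ IsLocalRing.maximalIdeal S ^ 2 := by
    rw [← IsLocalRing.ker_residue]
    exact h1
  rw [hq, Ideal.span_singleton_pow, Ideal.mem_span_singleton] at h1
  obtain ⟨r, hr⟩ := h1
  have hu2 : IsUnit (1 - q * r) := by
    refine (IsLocalRing.isUnit_or_isUnit_one_sub_self (q * r)).resolve_left fun h => ?_
    have : q ∈ nonunits S := by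
      rw [← IsLocalRing.mem_maximalIdeal, hq]
      exact Ideal.mem_span_singleton_self q
    exact this (isUnit_of_mul_isUnit_left h)
  refine hq0 (hu2.mul_left_eq_zero.1 ?_)
  linear_combination hr

end Local

section Global

variable {k R K : Type u} [Field k] [CharZero k] [CommRing R] [IsDomain R] [Algebra k R]
  [Algebra.FormallySmooth k R] [Algebra.EssFiniteType k R]
  [Field K] [Algebra R K] [IsFractionRing R K] [Algebra k K] [IsScalarTower k R K]

theorem dl_prime_ne {r : ℕ} (f : Fin r → R) (hf : ∀ i, Prime (f i)) (η : Ω[R⁄k]) (c : Fin r → R) {q : R} (hq : Prime q)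
    (hqf : ∀ i, ¬ q ∣ f i) {a b : R} (ha : a ≠ 0) (hb : ¬ q ∣ b) (hqa : q ∣ a) [IsNoetherianRing R]
    (h : dl k (algebraMap R K a) - dl k (algebraMap R K b) =
      KaehlerDifferential.map k k R K η +
        ∑ i, (algebraMap R K (c i) * (algebraMap R K (f i))⁻¹) • D k K (algebraMap R K (f i))) : False := by
  obtain ⟨n, a', ha', rfl⟩ := WfDvdMonoid.max_power_factor ha hq.irreducible
  have hn : n ≠ 0 := by
    rintro rfl
    rw [pow_zero, one_mul] at hqa
    exact ha' hqa
  let P : Ideal R := Ideal.span {q}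
  haveI : P.IsPrime := (Ideal.span_singleton_prime hq.ne_zero).2 hq
  let S := Localization.AtPrime P
  haveI : IsDomain S := IsLocalization.isDomain_localization P.primeCompl_le_nonZeroDivisors
  letI : Algebra S K := (IsLocalization.lift (S := S) (g := algebraMap R K) (fun s : P.primeCompl =>
    (isUnit_iff_ne_zero.2 ((map_ne_zero_iff _ (IsFractionRing.injective R K)).2 fun h0 => s.2 (h0 ▸ P.zero_mem))))).toAlgebra
  haveI : IsScalarTower R S K := IsScalarTower.of_algebraMap_eq fun x =>
    (IsLocalization.lift_eq (S := S) (g := algebraMap R K) _ x).symm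
  haveI : IsScalarTower k S K := IsScalarTower.of_algebraMap_eq fun x => by
    rw [IsScalarTower.algebraMap_apply k R S, ← IsScalarTower.algebraMap_apply R S K, ← IsScalarTower.algebraMap_apply k R K]
  haveI : IsFractionRing S K := IsFractionRing.isFractionRing_of_isDomain_of_isLocalization P.primeCompl S K
  haveI : Algebra.FormallySmooth R S := Algebra.FormallySmooth.of_isLocalization P.primeCompl
  haveI : Algebra.FormallySmooth k S := Algebra.FormallySmooth.comp k R S
  haveI : Algebra.EssFiniteType R S := Algebra.EssFiniteType.of_isLocalization S P.primeCompl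
  haveI : Algebra.EssFiniteType k S := Algebra.EssFiniteType.comp k R S
  have hunit : ∀ x : R, ¬ q ∣ x → IsUnit (algebraMap R S x) := fun x hx =>
    IsLocalization.map_units S (⟨x, fun hm => hx (Ideal.mem_span_singleton.1 hm)⟩ : P.primeCompl)
  have hmax : IsLocalRing.maximalIdeal S = Ideal.span {algebraMap R S q} := by
    rw [← Localization.AtPrime.map_eq_maximalIdeal, Ideal.map_span, Set.image_singleton]
  have hne : ∀ x : R, x ≠ 0 → algebraMap R K x ≠ 0 := fun x hx => (map_ne_zero_iff _ (IsFractionRing.injective R K)).2 hx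
  have hdl : ∀ x : R, ¬ q ∣ x → dl k (algebraMap R K x) ∈ forms k S K := fun x hx => by
    rw [IsScalarTower.algebraMap_apply R S K]
    exact dl_mem (hunit x hx)
  have hη : KaehlerDifferential.map k k R K η ∈ forms k S K := by
    have : ∀ x, KaehlerDifferential.map k k R K x ∈ forms k S K := fun x => by
      have hx : x ∈ Submodule.span R (Set.range (D k R)) := by
        rw [KaehlerDifferential.span_range_derivation]
        trivial
      induction hx using Submodule.span_induction with
      | mem y hy =>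
        obtain ⟨r, rfl⟩ := hy
        rw [KaehlerDifferential.map_D, IsScalarTower.algebraMap_apply R S K]
        exact D_mem _
      | zero => rw [map_zero]; exact zero_mem _
      | add y z _ _ hy hz => rw [map_add]; exact add_mem hy hz
      | smul r y _ hy =>
        rw [map_smul, ← algebraMap_smul S r]
        exact Submodule.smul_mem _ _ hy
    exact this η
  have hterm : ∀ i, (algebraMap R K (c i) * (algebraMap R K (f i))⁻¹) • D k K (algebraMap R K (f i)) ∈ forms k S K :=
    fun i => by
      have : (algebraMap R K (c i) * (algebraMap R K (f i))⁻¹) • D k K (algebraMap R K (f i)) =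
          algebraMap R S (c i) • dl k (algebraMap R K (f i)) := by
        rw [dl, ← algebraMap_smul K (algebraMap R S (c i)), smul_smul, ← IsScalarTower.algebraMap_apply R S K]
      rw [this]
      exact Submodule.smul_mem _ _ (hdl (f i) (hqf i))
  refine nsmul_dl_notMem (k := k) (K := K) (q := algebraMap R S q)
    ((map_ne_zero_iff _ (IsLocalization.injective S P.primeCompl_le_nonZeroDivisors)).2 hq.ne_zero) hmax hn ?_
  rw [map_mul, map_pow, dl_mul k (pow_ne_zero n (hne q hq.ne_zero)) (hne a' fun h0 => ha' (h0 ▸ dvd_zero q)),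
    dl_pow k (hne q hq.ne_zero)] at h
  rw [← IsScalarTower.algebraMap_apply R S K]
  have : n • dl k (algebraMap R K q) = (KaehlerDifferential.map k k R K η +
      ∑ i, (algebraMap R K (c i) * (algebraMap R K (f i))⁻¹) • D k K (algebraMap R K (f i))) +
        dl k (algebraMap R K b) - dl k (algebraMap R K a') := by
    rw [← h]; abel
  rw [this]
  exact sub_mem (add_mem (add_mem hη (sum_mem fun i _ => hterm i)) (hdl b hb)) (hdl a' ha')

theorem exists_form [UniqueFactorizationMonoid R] {r : ℕ} (f : Fin r → R) (hf : ∀ i, Prime (f i)) (a : R) (ha : a ≠ 0)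
    (hdiv : ∀ q, Prime q → q ∣ a → ∃ i, q ∣ f i) :
    ∃ (v : Rˣ) (b : Fin r → ℤ), dl k (algebraMap R K a) =
      dl k (algebraMap R K (v : R)) + ∑ i, ((b i : K) * (algebraMap R K (f i))⁻¹) • D k K (algebraMap R K (f i)) := by
  have hne : ∀ x : R, x ≠ 0 → algebraMap R K x ≠ 0 := fun x hx => (map_ne_zero_iff _ (IsFractionRing.injective R K)).2 hx
  induction a using UniqueFactorizationMonoid.induction_on_prime with
  | h₁ => exact absurd rfl ha
  | h₂ x hx => exact ⟨hx.unit, 0, by simp⟩
  | h₃ x q hx hq ih =>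
    obtain ⟨i, hi⟩ := hdiv q hq (dvd_mul_right q x)
    obtain ⟨v, b, e⟩ := ih hx fun q' hq' hd => hdiv q' hq' (hd.trans (dvd_mul_left x q))
    obtain ⟨u, hu⟩ := hq.associated_of_dvd (hf i) hi
    refine ⟨u⁻¹ * v, Function.update b i (b i + 1), ?_⟩
    have hq' : algebraMap R K q = algebraMap R K ((u⁻¹ : Rˣ) : R) * algebraMap R K (f i) := by
      rw [← map_mul, ← hu, mul_comm q, Units.inv_mul_cancel_left]
    have hsum : ∑ j, (((Function.update b i (b i + 1) j : ℤ) : K) * (algebraMap R K (f j))⁻¹) •
        D k K (algebraMap R K (f j)) = (∑ j, ((b j : K) * (algebraMap R K (f j))⁻¹) • D k K (algebraMap R K (f j))) +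
          dl k (algebraMap R K (f i)) := by
      rw [← Finset.add_sum_erase _ _ (Finset.mem_univ i), ← Finset.add_sum_erase (f := fun j =>
        ((b j : K) * (algebraMap R K (f j))⁻¹) • D k K (algebraMap R K (f j))) _ (Finset.mem_univ i),
        Function.update_self, Finset.sum_congr rfl (fun j hj => by rw [Function.update_of_ne (Finset.ne_of_mem_erase hj)]),
        Int.cast_add, Int.cast_one, add_mul, one_mul, add_smul, dl]
      abel
    rw [hsum, map_mul, dl_mul k (hne q hq.ne_zero) (hne x hx), e, hq',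
      dl_mul k (hne _ (Units.ne_zero _)) (hne _ (hf i).ne_zero), Units.val_mul, map_mul,
      dl_mul k (hne _ (Units.ne_zero _)) (hne _ (Units.ne_zero _))]
    abel

theorem main [IsNoetherianRing R] [UniqueFactorizationMonoid R] {r : ℕ} (f : Fin r → R) (hf : ∀ i, Prime (f i))
    (g : Kˣ) (η : Ω[R⁄k]) (c : Fin r → R)
    (h : dl k (g : K) = KaehlerDifferential.map k k R K η +
      ∑ i, (algebraMap R K (c i) * (algebraMap R K (f i))⁻¹) • D k K (algebraMap R K (f i))) :
    ∃ (v : Rˣ) (b : Fin r → ℤ), dl k (g : K) =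
      dl k (algebraMap R K (v : R)) + ∑ i, ((b i : K) * (algebraMap R K (f i))⁻¹) • D k K (algebraMap R K (f i)) := by
  have hne : ∀ x : R, x ≠ 0 → algebraMap R K x ≠ 0 := fun x hx => (map_ne_zero_iff _ (IsFractionRing.injective R K)).2 hx
  have hd0 : (IsFractionRing.den R (g : K) : R) ≠ 0 := nonZeroDivisors.ne_zero (IsFractionRing.den R (g : K)).2
  have hn0 : IsFractionRing.num R (g : K) ≠ 0 := fun h0 => g.ne_zero (IsFractionRing.eq_zero_of_num_eq_zero h0)
  have hg : dl k (g : K) = dl k (algebraMap R K (IsFractionRing.num R (g : K))) -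
      dl k (algebraMap R K (IsFractionRing.den R (g : K))) := by
    conv_lhs => rw [← IsFractionRing.mk'_num_den' R (g : K)]
    rw [div_eq_mul_inv, dl_mul k (hne _ hn0) (inv_ne_zero (hne _ hd0)), dl_inv k (hne _ hd0), sub_eq_add_neg]
  have hred := IsFractionRing.num_den_reduced R (g : K)
  rw [hg] at h
  have hnum : ∀ q, Prime q → q ∣ IsFractionRing.num R (g : K) → ∃ i, q ∣ f i := fun q hq hqa => by
    by_contra hc
    exact dl_prime_ne f hf η c hq (not_exists.1 hc) hn0 (fun hb => hq.not_isUnit (hred hqa hb)) hqa h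
  have hden : ∀ q, Prime q → q ∣ (IsFractionRing.den R (g : K) : R) → ∃ i, q ∣ f i := fun q hq hqb => by
    by_contra hc
    refine dl_prime_ne (K := K) f hf (-η) (-c) hq (not_exists.1 hc) hd0 (fun ha => hq.not_isUnit (hred ha hqb)) hqb ?_
    rw [← neg_sub, h, map_neg, neg_add, ← Finset.sum_neg_distrib]
    simp only [Pi.neg_apply, map_neg, neg_mul, neg_smul]
  obtain ⟨v, b, e⟩ := exists_form (k := k) (K := K) f hf _ hn0 hnum
  obtain ⟨v', b', e'⟩ := exists_form (k := k) (K := K) f hf _ hd0 hden
  refine ⟨v * v'⁻¹, b - b', ?_⟩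
  rw [hg, e, e', Units.val_mul, map_mul, dl_mul k (hne _ (Units.ne_zero _)) (hne _ (Units.ne_zero _)),
    map_units_inv, dl_inv k (hne _ (Units.ne_zero _))]
  simp only [Pi.sub_apply, Int.cast_sub, sub_mul, sub_smul, Finset.sum_sub_distrib]
  abel

end Global

end Groth.Agent.H6LogDiff
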